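import Mathlib

/-! Stabilised determinants of endomorphisms of `E ⊗ A` for a finite projective `A`. -/

set_option autoImplicit false

noncomputable section

universe u

open TensorProduct

namespace Groth.Agent.CoactPtsLib

/-- A finite dual basis. -/
structure DualBasis (R A : Type u) [CommRing R] [AddCommGroup A] [Module R A] where
  n : ℕ
  e : Fin n → A
  f : Fin n → A →ₗ[R] R
  sum_eq : ∀ x, ∑ i, f i x • e i = x

lemma exists_dualBasis (R A : Type u) [CommRing R] [AddCommGroup A] [Module R A] [Module.Finite R A]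
    [Module.Projective R A] : Nonempty (DualBasis R A) := by
  obtain ⟨n, e, he⟩ := Module.Finite.exists_fin (R := R) (M := A)
  obtain ⟨g, hg⟩ := Module.projective_lifting_property (Fintype.linearCombination R e) LinearMap.id
    (LinearMap.range_eq_top.1 (by rw [Fintype.range_linearCombination, he]))
  exact ⟨⟨n, e, fun i => LinearMap.proj i ∘ₗ g, fun x => by
    simpa [Fintype.linearCombination_apply] using LinearMap.congr_fun hg x⟩⟩

variable {R A : Type u} [CommRing R] [CommRing A] [Algebra R A] (d : DualBasis R A)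
  {E : Type u} [CommRing E] [Algebra R E]

/-- The `j`-th coordinate on `E ⊗ A`. -/
def coord (j : Fin d.n) : E ⊗[R] A →ₗ[E] E :=
  (AlgebraTensorModule.rid R E E).toLinearMap ∘ₗ (d.f j).baseChange E

@[simp] lemma coord_tmul (j : Fin d.n) (x : E) (a : A) : coord d j (x ⊗ₜ a) = d.f j a • x := by
  simp [coord]

lemma sum_coord (z : E ⊗[R] A) : ∑ j, coord d j z • ((1 : E) ⊗ₜ[R] d.e j) = z := by
  induction z with
  | zero => simp
  | add x y hx hy => simp only [map_add, add_smul, Finset.sum_add_distrib, hx, hy]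
  | tmul x a =>
    simp only [coord_tmul, smul_tmul', smul_eq_mul, mul_one, smul_tmul, ← tmul_sum, d.sum_eq]

/-- The stabilised matrix of an endomorphism. -/
def mat (L : E ⊗[R] A →ₗ[E] E ⊗[R] A) : Matrix (Fin d.n) (Fin d.n) E :=
  Matrix.of fun j k => (if j = k then 1 else 0) - algebraMap R E (d.f j (d.e k)) +
    coord d j (L ((1 : E) ⊗ₜ d.e k))

lemma coord_sum (L : E ⊗[R] A →ₗ[E] E ⊗[R] A) (j : Fin d.n) (z : E ⊗[R] A) :
    coord d j (L z) = ∑ k, coord d j (L ((1 : E) ⊗ₜ d.e k)) * coord d k z := by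
  conv_lhs => rw [← sum_coord d z, map_sum, map_sum]
  refine Finset.sum_congr rfl fun k _ => ?_
  rw [map_smul, map_smul, smul_eq_mul, mul_comm]

lemma mat_id : mat d (LinearMap.id : E ⊗[R] A →ₗ[E] E ⊗[R] A) = 1 := by
  ext j k
  simp [mat, Matrix.one_apply, Algebra.algebraMap_eq_smul_one]

lemma mat_comp (L L' : E ⊗[R] A →ₗ[E] E ⊗[R] A) : mat d (L ∘ₗ L') = mat d L * mat d L' := by
  let P : Matrix (Fin d.n) (Fin d.n) E := Matrix.of fun j k => algebraMap R E (d.f j (d.e k))
  let Q : (E ⊗[R] A →ₗ[E] E ⊗[R] A) → Matrix (Fin d.n) (Fin d.n) E :=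
    fun L => Matrix.of fun j k => coord d j (L ((1 : E) ⊗ₜ d.e k))
  have hmat : ∀ L, mat d L = 1 - P + Q L := fun L => by
    ext j k
    simp [mat, P, Q, Matrix.one_apply]
  have hmul : ∀ L L', Q (L ∘ₗ L') = Q L * Q L' := fun L L' => by
    ext j k
    simp only [Q, Matrix.of_apply, LinearMap.comp_apply, Matrix.mul_apply]
    exact coord_sum d L j _
  have hP : P = Q LinearMap.id := by
    ext j k
    simp [P, Q, Algebra.algebraMap_eq_smul_one]
  have h1 : ∀ L, P * Q L = Q L := fun L => by rw [hP, ← hmul, LinearMap.id_comp]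
  have h2 : ∀ L, Q L * P = Q L := fun L => by rw [hP, ← hmul, LinearMap.comp_id]
  have h3 : P * P = P := by rw [hP, ← hmul, LinearMap.id_comp]
  rw [hmat, hmat, hmat, hmul]
  simp only [add_mul, mul_add, sub_mul, mul_sub, one_mul, mul_one, h1, h2, h3]
  abel

/-- The stabilised determinant of an element of `E ⊗ A`. -/
def det (a : E ⊗[R] A) : E := (mat d (LinearMap.mulLeft E a)).det

lemma det_one : det d (1 : E ⊗[R] A) = 1 := by
  rw [det, show LinearMap.mulLeft E (1 : E ⊗[R] A) = LinearMap.id from LinearMap.ext fun _ => one_mul _,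
    mat_id, Matrix.det_one]

lemma det_mul (a b : E ⊗[R] A) : det d (a * b) = det d a * det d b := by
  rw [det, det, det, ← Matrix.det_mul, ← mat_comp]
  congr 2
  exact LinearMap.ext fun x => mul_assoc a b x

lemma isUnit_det {a : E ⊗[R] A} (ha : IsUnit a) : IsUnit (det d a) := by
  obtain ⟨b, hb⟩ := ha.exists_right_inv
  exact .of_mul_eq_one _ (by rw [← det_mul, hb, det_one])

variable {E' : Type u} [CommRing E'] [Algebra R E']

lemma coord_map (φ : E →ₐ[R] E') (j : Fin d.n) (z : E ⊗[R] A) :
    coord d j (Algebra.TensorProduct.map φ (AlgHom.id R A) z) = φ (coord d j z) := by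
  induction z with
  | zero => simp
  | add x y hx hy => simp only [map_add, hx, hy]
  | tmul x a => simp

/-- Base change of the determinant. -/
lemma det_map (φ : E →ₐ[R] E') (a : E ⊗[R] A) :
    φ (det d a) = det d (Algebra.TensorProduct.map φ (AlgHom.id R A) a) := by
  rw [det, det, AlgHom.map_det]
  congr 1
  ext j k
  simp only [mat, Matrix.of_apply, AlgHom.mapMatrix_apply, Matrix.map_apply, map_add, map_sub,
    AlgHom.commutes, LinearMap.mulLeft_apply, ← coord_map, map_mul, Algebra.TensorProduct.map_tmul,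
    map_one, AlgHom.id_apply]
  congr 2
  split_ifs <;> simp

/-- Invariance under automorphisms. -/
lemma det_algEquiv (τ : E ⊗[R] A ≃ₐ[E] E ⊗[R] A) (a : E ⊗[R] A) : det d (τ a) = det d a := by
  have h : LinearMap.mulLeft E (τ a) = τ.toLinearMap ∘ₗ LinearMap.mulLeft E a ∘ₗ τ.symm.toLinearMap :=
    LinearMap.ext fun x => by simp
  have h1 : mat d τ.toLinearMap * mat d τ.symm.toLinearMap = 1 := by
    rw [← mat_comp, ← mat_id d]
    congr 1
    exact LinearMap.ext fun x => τ.apply_symm_apply x
  have h2 : (mat d τ.toLinearMap).det * (mat d τ.symm.toLinearMap).det = 1 := by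
    rw [← Matrix.det_mul, h1, Matrix.det_one]
  rw [det, det, h, mat_comp, mat_comp, Matrix.det_mul, Matrix.det_mul, mul_left_comm, h2, mul_one]

/-- An element killed by a point of `A` has determinant zero. -/
lemma det_eq_zero (g : A →ₐ[R] E) (a : E ⊗[R] A)
    (ha : Algebra.TensorProduct.lift (Algebra.ofId E E) g (fun _ _ => .all _ _) a = 0) : det d a = 0 := by
  set G : E ⊗[R] A →ₐ[E] E := Algebra.TensorProduct.lift (Algebra.ofId E E) g (fun _ _ => .all _ _) with hG
  have hG1 : ∀ j, G ((1 : E) ⊗ₜ d.e j) = g (d.e j) := fun j => by simp [hG]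
  have hv : Matrix.vecMul (fun j => g (d.e j)) (mat d (LinearMap.mulLeft E a)) = 0 := by
    funext k
    simp only [Matrix.vecMul, dotProduct, mat, Matrix.of_apply, Pi.zero_apply, mul_add, mul_sub,
      mul_ite, mul_one, mul_zero, Finset.sum_add_distrib, Finset.sum_sub_distrib, Finset.sum_ite_eq',
      Finset.mem_univ, if_true, LinearMap.mulLeft_apply]
    have h1 : ∑ j, g (d.e j) * algebraMap R E (d.f j (d.e k)) = g (d.e k) := by
      conv_rhs => rw [← d.sum_eq (d.e k), map_sum]
      refine Finset.sum_congr rfl fun j _ => ?_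
      rw [map_smul, Algebra.smul_def, mul_comm]
    have h2 : ∑ j, g (d.e j) * coord d j (a * ((1 : E) ⊗ₜ d.e k)) = 0 := by
      have := congrArg G (sum_coord d (a * ((1 : E) ⊗ₜ d.e k)))
      rw [map_sum, map_mul, ha, zero_mul] at this
      simpa only [map_smul, hG1, smul_eq_mul, mul_comm] using this
    rw [h1, h2, sub_self, add_zero]
  have h3 : ∑ j, algebraMap R E (d.f j 1) * g (d.e j) = 1 := by
    have h := congrArg g (d.sum_eq 1)
    rw [map_sum, map_one] at h
    exact (Finset.sum_congr rfl fun j _ => by rw [map_smul, Algebra.smul_def]).trans h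
  have h4 := congrArg (fun v => Matrix.vecMul v (mat d (LinearMap.mulLeft E a)).adjugate) hv
  rw [Matrix.vecMul_vecMul, Matrix.mul_adjugate, Matrix.zero_vecMul] at h4
  have h5 : ∀ j, g (d.e j) * det d a = 0 := fun j => by
    have := congrFun h4 j
    simpa [Matrix.vecMul_smul, det, mul_comm] using this
  calc det d a = (∑ j, algebraMap R E (d.f j 1) * g (d.e j)) * det d a := by rw [h3, one_mul]
    _ = 0 := by simp [Finset.sum_mul, mul_assoc, h5]

end Groth.Agent.CoactPtsLib
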