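import Mathlib
import Groth.Prelude.Def_CoactBr
import Groth.Agent.CoactPtsLib.Det
import Groth.Agent.Comodule.Integral

/-! Points of an affine scheme with an action of a finite locally free group with the same image in the
quotient are conjugate. -/

set_option autoImplicit false

noncomputable section

universe u

open TensorProduct WithConv

namespace Groth.Agent.CoactPtsLib

variable {R A : Type u} [CommRing R] [CommRing A] [HopfAlgebra R A]

local notation "ι₁" => (Algebra.TensorProduct.includeLeft : A →ₐ[R] A ⊗[R] A)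
local notation "ι₂" => (Algebra.TensorProduct.includeRight : A →ₐ[R] A ⊗[R] A)
local notation "Δ" => Bialgebra.comulAlgHom R A
local notation "S" => HopfAlgebra.antipodeAlgHom R A

variable (R A) in
/-- `h ⊗ a ↦ h a₁ ⊗ a₂`. -/
def shear : A ⊗[R] A →ₐ[R] A ⊗[R] A :=
  Algebra.TensorProduct.lift ι₁ Δ fun _ _ => .all _ _

variable (R A) in
/-- The inverse shear. -/
def shearInv : A ⊗[R] A →ₐ[R] A ⊗[R] A :=
  Algebra.TensorProduct.lift ι₁ (toConv ((ι₁).comp S) * toConv ι₂).ofConv fun _ _ => .all _ _

lemma shearInv_comul (a : A) : shearInv R A (Coalgebra.comul (R := R) a) = (1 : A) ⊗ₜ[R] a := by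
  have h := congrArg (fun f => f.ofConv a)
    (Comodule.lift_comp_eq_mul ι₁ (toConv ((ι₁).comp S) * toConv ι₂).ofConv)
  simp only [ofConv_toConv, AlgHom.comp_apply, Bialgebra.comulAlgHom_apply] at h
  refine h.trans ?_
  have e : toConv ((ι₁).comp S) = (toConv ι₁)⁻¹ := rfl
  rw [toConv_ofConv, e]
  exact congrArg (fun f => f.ofConv a) (mul_inv_cancel_left (toConv ι₁) (toConv ι₂))

lemma shear_mul (f g : A →ₐ[R] A ⊗[R] A) : (shear R A).comp (toConv f * toConv g).ofConv =
    (toConv ((shear R A).comp f) * toConv ((shear R A).comp g)).ofConv := by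
  refine AlgHom.ext fun a => ?_
  rw [AlgHom.comp_apply, Comodule.lmul'_comp_map_incl, Comodule.lmul'_comp_map_incl]
  generalize Coalgebra.comul (R := R) a = x
  induction x with
  | zero => simp
  | tmul a b => simp
  | add x y hx hy => simp only [map_add, hx, hy]

lemma shear_shearInv : (shear R A).comp (shearInv R A) = AlgHom.id R _ := by
  refine Algebra.TensorProduct.ext ?_ ?_
  · refine AlgHom.ext fun h => ?_
    simp [shear, shearInv]
  · refine AlgHom.ext fun a => ?_
    have h1 : (shear R A).comp ((ι₁).comp S) = (ι₁).comp S := AlgHom.ext fun a => by simp [shear]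
    have h2 : (shear R A).comp ι₂ = Δ := AlgHom.ext fun a => by simp [shear]
    have h : (shear R A).comp (toConv ((ι₁).comp S) * toConv ι₂).ofConv = ι₂ := by
      rw [shear_mul, h1, h2, Comodule.comulAlgHom_eq_mul,
        show toConv ((ι₁).comp S) = (toConv ι₁)⁻¹ from rfl]
      exact congrArg ofConv (inv_mul_cancel_left (toConv ι₁) (toConv ι₂))
    simpa [shearInv, ← Algebra.TensorProduct.one_def] using AlgHom.congr_fun h a

lemma shearInv_shear : (shearInv R A).comp (shear R A) = AlgHom.id R _ := by
  refine Algebra.TensorProduct.ext ?_ ?_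
  · refine AlgHom.ext fun h => ?_
    simp [shear, shearInv]
  · refine AlgHom.ext fun a => ?_
    simpa [shear, ← Algebra.TensorProduct.one_def] using shearInv_comul (R := R) a

variable (R A) in
/-- The shear as an automorphism. -/
def shearEquiv : A ⊗[R] A ≃ₐ[R] A ⊗[R] A :=
  AlgEquiv.ofAlgHom (shear R A) (shearInv R A) shear_shearInv shearInv_shear

variable {B : Type u} [CommRing B] [Algebra R B]

/-- The shear on `(B ⊗ A) ⊗ A`, linear over the first two factors. -/
def shearB : (B ⊗[R] A) ⊗[R] A ≃ₐ[B ⊗[R] A] (B ⊗[R] A) ⊗[R] A :=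
  let T : (B ⊗[R] A) ⊗[R] A ≃ₐ[R] (B ⊗[R] A) ⊗[R] A :=
    (Algebra.TensorProduct.assoc R R R B A A).trans <|
      (Algebra.TensorProduct.congr AlgEquiv.refl (shearEquiv R A)).trans
        (Algebra.TensorProduct.assoc R R R B A A).symm
  AlgEquiv.ofRingEquiv (f := T.toRingEquiv) fun z => by
    show T (z ⊗ₜ[R] (1 : A)) = z ⊗ₜ[R] (1 : A)
    induction z with
    | zero => rw [TensorProduct.zero_tmul, map_zero]
    | add x y hx hy => rw [TensorProduct.add_tmul, map_add, hx, hy]
    | tmul b h => simp [T, shearEquiv, shear]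

lemma shearB_incl (y : B ⊗[R] A) :
    shearB (Algebra.TensorProduct.map (Algebra.TensorProduct.includeLeft : B →ₐ[R] B ⊗[R] A)
      (AlgHom.id R A) y) =
      (Algebra.TensorProduct.assoc R R R B A A).symm
        (Algebra.TensorProduct.map (AlgHom.id R B) Δ y) := by
  induction y with
  | zero => simp
  | add x y hx hy => simp only [map_add, hx, hy]
  | tmul b a =>
    simp [shearB, shearEquiv, shear, ← Algebra.TensorProduct.one_def]

variable (d : DualBasis R A)

/-- The norm of a coaction is invariant. -/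
theorem coact_det (ρ : B →ₐ[R] B ⊗[R] A)
    (hco : ∀ b : B, Algebra.TensorProduct.assoc R R R B A A (Algebra.TensorProduct.map ρ (AlgHom.id R A) (ρ b)) =
      Algebra.TensorProduct.map (AlgHom.id R B) Δ (ρ b)) (b : B) :
    ρ (det d (ρ b)) = det d (ρ b) ⊗ₜ[R] (1 : A) := by
  rw [det_map d ρ, show det d (ρ b) ⊗ₜ[R] (1 : A) =
    (Algebra.TensorProduct.includeLeft : B →ₐ[R] B ⊗[R] A) (det d (ρ b)) from rfl, det_map]
  conv_rhs => rw [← det_algEquiv d shearB, shearB_incl, ← hco, AlgEquiv.symm_apply_apply]

section Coact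

variable [HopfRep.Comod R A B] [GLin.IsCoactAlg R A B]

local notation "ρ" => GLin.coactAlgHom R A B

lemma coassoc_apply (b : B) :
    Algebra.TensorProduct.assoc R R R B A A (Algebra.TensorProduct.map ρ (AlgHom.id R A) (ρ b)) =
      Algebra.TensorProduct.map (AlgHom.id R B) Δ (ρ b) :=
  (congr($(CoactBr.coactHom_comul R A B).hom b)).symm

/-- The norm `N(b) ∈ B^G`. -/
theorem det_mem_invariants (b : B) : det d (ρ b) ∈ GLin.invariants R A B :=
  (GLin.mem_invariants_iff R A B _).2 (coact_det d ρ coassoc_apply b)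

variable (C : Type u) [CommRing C] [Algebra R C]

variable (A B) in
/-- The coaction with coefficients. -/
def coactC : C ⊗[R] B →ₐ[R] (C ⊗[R] B) ⊗[R] A :=
  (Algebra.TensorProduct.assoc R R R C B A).symm.toAlgHom.comp
    (Algebra.TensorProduct.map (AlgHom.id R C) ρ)

lemma coactC_tmul (c : C) (b : B) :
    coactC A B C (c ⊗ₜ[R] b) = (Algebra.TensorProduct.assoc R R R C B A).symm (c ⊗ₜ[R] ρ b) := rfl

lemma coassocC (z : C ⊗[R] B) :
    Algebra.TensorProduct.assoc R R R (C ⊗[R] B) A A
        (Algebra.TensorProduct.map (coactC A B C) (AlgHom.id R A) (coactC A B C z)) =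
      Algebra.TensorProduct.map (AlgHom.id R (C ⊗[R] B)) Δ (coactC A B C z) := by
  induction z with
  | zero => simp
  | add x y hx hy => simp only [map_add, hx, hy]
  | tmul c b =>
    let Θ : B ⊗[R] (A ⊗[R] A) →ₗ[R] (C ⊗[R] B) ⊗[R] (A ⊗[R] A) :=
      (TensorProduct.mk R C B c).rTensor (A ⊗[R] A)
    have hsymm : ∀ y : B ⊗[R] A, (Algebra.TensorProduct.assoc R R R C B A).symm (c ⊗ₜ[R] y) =
        (TensorProduct.mk R C B c).rTensor A y := fun y => by
      induction y with
      | zero => simp
      | add x y hx hy => simp only [TensorProduct.tmul_add, map_add, hx, hy]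
      | tmul b a => simp
    have h1 : ∀ y : B ⊗[R] A, Algebra.TensorProduct.assoc R R R (C ⊗[R] B) A A
        (Algebra.TensorProduct.map (coactC A B C) (AlgHom.id R A) ((TensorProduct.mk R C B c).rTensor A y)) =
        Θ (Algebra.TensorProduct.assoc R R R B A A (Algebra.TensorProduct.map ρ (AlgHom.id R A) y)) := fun y => by
      induction y with
      | zero => simp
      | add x y hx hy => simp only [map_add, hx, hy]
      | tmul b a =>
        rw [LinearMap.rTensor_tmul, Algebra.TensorProduct.map_tmul, Algebra.TensorProduct.map_tmul,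
          TensorProduct.mk_apply, coactC_tmul, hsymm]
        generalize ρ b = w
        induction w with
        | zero => simp
        | add x y hx hy => simp only [map_add, TensorProduct.add_tmul, hx, hy]
        | tmul b' a' => simp [Θ]
    have h2 : ∀ y : B ⊗[R] A,
        Algebra.TensorProduct.map (AlgHom.id R (C ⊗[R] B)) Δ ((TensorProduct.mk R C B c).rTensor A y) =
        Θ (Algebra.TensorProduct.map (AlgHom.id R B) Δ y) := fun y => by
      induction y with
      | zero => simp
      | add x y hx hy => simp only [map_add, hx, hy]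
      | tmul b a => simp [Θ]
    rw [coactC_tmul, hsymm, h1, h2, coassoc_apply]

variable {C}

/-- The norms at two points with the same restriction to the invariants agree. -/
theorem det_coact_congr [Module.Flat R C] {E : Type u} [CommRing E] [Algebra R E] (ev : C →ₐ[R] E)
    (x₁ x₂ : B →ₐ[R] E) (hx : ∀ b ∈ GLin.invariants R A B, x₁ b = x₂ b) (β : C ⊗[R] B) :
    det d (Algebra.TensorProduct.map (Algebra.TensorProduct.lift ev x₁ fun _ _ => .all _ _)
      (AlgHom.id R A) (coactC A B C β)) =
    det d (Algebra.TensorProduct.map (Algebra.TensorProduct.lift ev x₂ fun _ _ => .all _ _)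
      (AlgHom.id R A) (coactC A B C β)) := by
  rw [← det_map, ← det_map]
  have hN := coact_det d (coactC A B C) (coassocC C) β
  set N := det d (coactC A B C β)
  let D : B →ₗ[R] B ⊗[R] A := (ρ).toLinearMap - (TensorProduct.mk R B A).flip 1
  have hex : Function.Exact (GLin.invariants R A B).val.toLinearMap D := fun b => by
    simp only [D, LinearMap.sub_apply, sub_eq_zero]
    exact ⟨fun h => ⟨⟨b, (GLin.mem_invariants_iff R A B b).2 h⟩, rfl⟩,
      fun ⟨v, hv⟩ => hv ▸ (GLin.mem_invariants_iff R A B v).1 v.2⟩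
  have hDN : D.lTensor C N = 0 := by
    have key : ∀ z : C ⊗[R] B, D.lTensor C z =
        Algebra.TensorProduct.assoc R R R C B A (coactC A B C z - z ⊗ₜ[R] (1 : A)) := fun z => by
      induction z with
      | zero => simp
      | add x y hx hy =>
        simp only [map_add, TensorProduct.add_tmul, hx, hy, map_sub]
        abel
      | tmul c b => simp [D, coactC_tmul, TensorProduct.tmul_sub]
    rw [key, hN, sub_self, map_zero]
  obtain ⟨v, hv⟩ := (Module.Flat.lTensor_exact C hex N).1 hDN
  rw [← hv]
  clear hv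
  induction v with
  | zero => simp
  | add x y hx hy => simp only [map_add, hx, hy]
  | tmul c w => simp [hx w w.2]

end Coact

section Conj

variable [HopfRep.Comod R A B] [GLin.IsCoactAlg R A B] [Module.Finite R A] [Module.Projective R A]

/-- A point moved by a point of the group. -/
abbrev act {E : Type u} [CommRing E] [Algebra R E] (x : B →ₐ[R] E) (g : A →ₐ[R] E) : B →ₐ[R] E :=
  (Algebra.TensorProduct.lift x g fun _ _ => .all _ _).comp (GLin.coactAlgHom R A B)

/-- The unit point. -/
abbrev unit (A E : Type u) [CommRing A] [HopfAlgebra R A] [CommRing E] [Algebra R E] : A →ₐ[R] E :=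
  (Algebra.ofId R E).comp (Bialgebra.counitAlgHom R A)

lemma act_unit {E : Type u} [CommRing E] [Algebra R E] (x : B →ₐ[R] E) : act x (unit A E) = x := by
  apply CoactBr.pt_injective
  rw [← CoactBr.lift_pt_ract, ← CoactBr.one_eq_pt, CoactBr.lift_one_ract]

omit [Module.Finite R A] [Module.Projective R A] in
lemma lift_coactC {C : Type u} [CommRing C] [Algebra R C] {E : Type u} [CommRing E] [Algebra R E]
    (ev : C →ₐ[R] E) (x : B →ₐ[R] E) (g : A →ₐ[R] E) (β : C ⊗[R] B) :
    Algebra.TensorProduct.lift (Algebra.ofId E E) g (fun _ _ => .all _ _)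
      (Algebra.TensorProduct.map (Algebra.TensorProduct.lift ev x fun _ _ => .all _ _)
        (AlgHom.id R A) (coactC A B C β)) =
    Algebra.TensorProduct.lift ev (act x g) (fun _ _ => .all _ _) β := by
  induction β with
  | zero => simp
  | add x y hx hy => simp only [map_add, hx, hy]
  | tmul c b =>
    rw [coactC_tmul, Algebra.TensorProduct.lift_tmul, act, AlgHom.comp_apply]
    generalize GLin.coactAlgHom R A B b = y
    induction y with
    | zero => simp
    | add x y hx hy => simp only [TensorProduct.tmul_add, map_add, hx, hy, mul_add]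
    | tmul b a => simp [mul_assoc]

/-- Two geometric points with the same restriction to the invariants are conjugate. -/
theorem exists_act_eq {K : Type u} [Field K] [IsAlgClosed K] [Algebra R K] (x₁ x₂ : B →ₐ[R] K)
    (hx : ∀ b ∈ GLin.invariants R A B, x₁ b = x₂ b) : ∃ g : A →ₐ[R] K, act x₂ g = x₁ := by
  classical
  obtain ⟨d⟩ := exists_dualBasis R A
  by_contra hcon
  push Not at hcon
  -- `K`-points of `K ⊗ A` and of `K ⊗ B`
  let ext : (B →ₐ[R] K) → (K ⊗[R] B →ₐ[K] K) := fun y =>
    Algebra.TensorProduct.lift (Algebra.ofId K K) y fun _ _ => .all _ _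
  have hext : Function.Injective ext := fun y z h => AlgHom.ext fun b => by
    simpa [ext] using AlgHom.congr_fun h ((1 : K) ⊗ₜ b)
  haveI : Finite (A →ₐ[R] K) := Finite.of_injective
    (fun g => (Algebra.TensorProduct.lift (Algebra.ofId K K) g fun _ _ => .all _ _ : K ⊗[R] A →ₐ[K] K))
    fun g g' h => AlgHom.ext fun a => by simpa using AlgHom.congr_fun h ((1 : K) ⊗ₜ a)
  haveI := Fintype.ofFinite (A →ₐ[R] K)
  let P : (A →ₐ[R] K) → Ideal (K ⊗[R] B) := fun g => RingHom.ker (ext (act x₂ g))
  have hsub : ¬ ((RingHom.ker (ext x₁) : Ideal (K ⊗[R] B)) : Set (K ⊗[R] B)) ⊆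
      ⋃ g ∈ ((Finset.univ : Finset (A →ₐ[R] K)) : Set (A →ₐ[R] K)), (P g : Set (K ⊗[R] B)) := by
    intro h
    obtain ⟨g, -, hle⟩ := (Ideal.subset_union_prime (unit A K) (unit A K)
      fun g _ _ _ => RingHom.ker_isPrime _).1 h
    refine hcon g (hext ?_)
    refine AlgHom.ext fun z => ?_
    have hz : z - algebraMap K _ (ext x₁ z) ∈ RingHom.ker (ext x₁) := by
      rw [RingHom.mem_ker, map_sub, AlgHom.commutes, Algebra.algebraMap_self, RingHom.id_apply, sub_self]
    have := hle hz
    rw [RingHom.mem_ker, map_sub, AlgHom.commutes, Algebra.algebraMap_self, RingHom.id_apply, sub_eq_zero] at this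
    exact this
  obtain ⟨z, hz1, hz2⟩ := Set.not_subset.1 hsub
  -- write `z` with generic coefficients
  obtain ⟨s, hs⟩ := TensorProduct.exists_finset z
  let ev : MvPolynomial s R →ₐ[R] K := MvPolynomial.aeval fun i => i.1.1
  let β : MvPolynomial s R ⊗[R] B := ∑ i : s, MvPolynomial.X i ⊗ₜ[R] i.1.2
  have hβ : ∀ y : B →ₐ[R] K, Algebra.TensorProduct.lift ev y (fun _ _ => .all _ _) β = ext y z := fun y => by
    rw [hs, map_sum, map_sum, ← Finset.sum_coe_sort s]
    refine Finset.sum_congr rfl fun i _ => ?_
    simp [ev, ext]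
  have hdet := det_coact_congr d ev x₁ x₂ hx β
  have h1 : det d (Algebra.TensorProduct.map (Algebra.TensorProduct.lift ev x₁ fun _ _ => .all _ _)
      (AlgHom.id R A) (coactC A B _ β)) = 0 := by
    refine det_eq_zero d (unit A K) _ ?_
    rw [lift_coactC, act_unit, hβ]
    exact hz1
  rw [h1] at hdet
  set a := Algebra.TensorProduct.map (Algebra.TensorProduct.lift ev x₂ fun _ _ => .all _ _)
    (AlgHom.id R A) (coactC A B _ β) with ha
  have hunit : IsUnit a := by
    by_contra hnu
    obtain ⟨M, hM, haM⟩ := exists_max_ideal_of_mem_nonunits hnu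
    letI := Ideal.Quotient.field M
    haveI : Algebra.IsIntegral K ((K ⊗[R] A) ⧸ M) := inferInstance
    have hbij : Function.Bijective (algebraMap K ((K ⊗[R] A) ⧸ M)) :=
      IsAlgClosed.algebraMap_bijective_of_isIntegral
    let e : ((K ⊗[R] A) ⧸ M) ≃ₐ[K] K := (AlgEquiv.ofBijective (Algebra.ofId K _) hbij).symm
    let g : A →ₐ[R] K := (e.toAlgHom.restrictScalars R).comp
      (((Ideal.Quotient.mkₐ K M).restrictScalars R).comp Algebra.TensorProduct.includeRight)
    have hg : (Algebra.TensorProduct.lift (Algebra.ofId K K) g fun _ _ => .all _ _ : K ⊗[R] A →ₐ[K] K) =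
        e.toAlgHom.comp (Ideal.Quotient.mkₐ K M) :=
      Algebra.TensorProduct.ext (by ext) (AlgHom.ext fun x => by simp [g])
    have hga : ext (act x₂ g) z = 0 := by
      rw [← hβ, ← lift_coactC]
      exact (AlgHom.congr_fun hg a).trans (by
        rw [AlgHom.comp_apply]
        exact (congrArg _ (Ideal.Quotient.eq_zero_iff_mem.2 haM)).trans (map_zero _))
    exact hz2 (Set.mem_iUnion₂.2 ⟨g, Finset.mem_coe.2 (Finset.mem_univ g), hga⟩)
  exact (isUnit_det d hunit).ne_zero hdet.symm

end Conj

end Groth.Agent.CoactPtsLib
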