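import Mathlib
import Groth.Agent.CoactPtsLib.Orbit

/-! Trivial inertia at a point, its invariance along the orbit, and freeness near the image point. -/

set_option autoImplicit false

noncomputable section

universe u

open TensorProduct CategoryTheory
open scoped MonObj

namespace Groth.Agent.CoactPtsLib

variable {R A B : Type u} [CommRing R] [CommRing A] [HopfAlgebra R A] [CommRing B] [Algebra R B]
  [HopfRep.Comod R A B] [GLin.IsCoactAlg R A B]

/-- Trivial inertia, on ring-valued points. -/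
def Triv {K : Type u} [CommRing K] [Algebra R K] (x : B →ₐ[R] K) : Prop :=
  ∀ (C : Type u) (_ : CommRing C) (_ : Algebra R C) (h : K →ₐ[R] C) (g : A →ₐ[R] C),
    act (h.comp x) g = h.comp x → g = unit A C

lemma comp_act {C D : Type u} [CommRing C] [Algebra R C] [CommRing D] [Algebra R D] (φ : C →ₐ[R] D)
    (x : B →ₐ[R] C) (g : A →ₐ[R] C) : φ.comp (act x g) = act (φ.comp x) (φ.comp g) := by
  refine AlgHom.ext fun b => ?_
  simp only [act, AlgHom.comp_apply]
  generalize GLin.coactAlgHom R A B b = y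
  induction y with
  | zero => simp
  | add x y hx hy => simp only [map_add, hx, hy]
  | tmul b a => simp

lemma comp_unit {C D : Type u} [CommRing C] [Algebra R C] [CommRing D] [Algebra R D] (φ : C →ₐ[R] D) :
    φ.comp (unit A C) = unit A D := AlgHom.ext fun a => by simp [unit]

lemma triv_comp {K L : Type u} [CommRing K] [Algebra R K] [CommRing L] [Algebra R L] {x : B →ₐ[R] K}
    (hx : Triv (A := A) x) (i : K →ₐ[R] L) : Triv (A := A) (i.comp x) := fun C _ _ h g hg =>
  hx C inferInstance inferInstance (h.comp i) g (by rw [AlgHom.comp_assoc]; exact hg)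

lemma triv_of_comp {K L : Type u} [Field K] [Algebra R K] [Field L] [Algebra R L] {x : B →ₐ[R] K}
    (i : K →ₐ[R] L) (hx : Triv (A := A) (i.comp x)) : Triv (A := A) x := by
  intro C _ _ h g hg
  letI : Algebra K C := h.toRingHom.toAlgebra
  haveI : IsScalarTower R K C := IsScalarTower.of_algebraMap_eq fun r => (h.commutes r).symm
  letI : Algebra K L := i.toRingHom.toAlgebra
  haveI : IsScalarTower R K L := IsScalarTower.of_algebraMap_eq fun r => (i.commutes r).symm
  let inc : C →ₐ[R] C ⊗[K] L := Algebra.TensorProduct.includeLeft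
  let h' : L →ₐ[R] C ⊗[K] L := (Algebra.TensorProduct.includeRight : L →ₐ[K] C ⊗[K] L).restrictScalars R
  have hh : h'.comp i = inc.comp h := AlgHom.ext fun c => by
    show (1 : C) ⊗ₜ[K] algebraMap K L c = algebraMap K C c ⊗ₜ[K] (1 : L)
    rw [Algebra.algebraMap_eq_smul_one, Algebra.algebraMap_eq_smul_one, TensorProduct.tmul_smul,
      TensorProduct.smul_tmul']
  have h1 : inc.comp g = unit A (C ⊗[K] L) := hx (C ⊗[K] L) inferInstance inferInstance h' (inc.comp g) (by
    rw [← AlgHom.comp_assoc, hh, AlgHom.comp_assoc, ← comp_act, hg])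
  have hinj : Function.Injective inc :=
    Algebra.TensorProduct.includeLeft_injective (S := C) (RingHom.injective _)
  exact AlgHom.ext fun a => hinj (by
    rw [← AlgHom.comp_apply, h1, ← comp_unit (A := A) inc, AlgHom.comp_apply])

lemma triv_of_act {C : Type u} [CommRing C] [Algebra R C] {y : B →ₐ[R] C} (g₀ : A →ₐ[R] C)
    (hy : Triv (A := A) (act y g₀)) : Triv (A := A) y := by
  intro D _ _ h g hg
  set X := CoactBr.pt (h.comp y) with hX
  set U := CoactBr.pt (h.comp g₀)
  set G := CoactBr.pt g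
  have hG : CartesianMonoidalCategory.lift X G ≫ CoactBr.ract R A B = X := by rw [CoactBr.lift_pt_ract]; exact congrArg CoactBr.pt hg
  have e0 : CoactBr.pt (h.comp (act y g₀)) = CartesianMonoidalCategory.lift X U ≫ CoactBr.ract R A B := by
    rw [CoactBr.lift_pt_ract, comp_act]
  have hfix : CartesianMonoidalCategory.lift (CoactBr.pt (h.comp (act y g₀))) (U⁻¹ * G * U) ≫ CoactBr.ract R A B =
      CoactBr.pt (h.comp (act y g₀)) := by
    rw [e0, CoactBr.lift_ract_ract, mul_assoc, mul_inv_cancel_left, ← CoactBr.lift_ract_ract, hG]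
  obtain ⟨g', hg'⟩ : ∃ g' : A →ₐ[R] D, CoactBr.pt g' = U⁻¹ * G * U :=
    ⟨_, by rw [CoactBr.pt_inv, CoactBr.pt_mul_pt, CoactBr.pt_mul_pt]⟩
  have hg'1 : g' = unit A D := hy D inferInstance inferInstance h g' (CoactBr.pt_injective (by
    rw [← CoactBr.lift_pt_ract, hg']; exact hfix))
  rw [hg'1, ← CoactBr.one_eq_pt] at hg'
  apply CoactBr.pt_injective
  rw [← CoactBr.one_eq_pt]
  calc G = U * (U⁻¹ * G * U) * U⁻¹ := by simp [mul_assoc]
    _ = 1 := by rw [← hg', mul_one, mul_inv_cancel]

variable [Module.Finite R A] [Module.Projective R A]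

/-- Trivial inertia only depends on the image in the quotient. -/
theorem triv_of_ker_eq {K₁ K₂ : Type u} [Field K₁] [Algebra R K₁] [Field K₂] [Algebra R K₂]
    (x₁ : B →ₐ[R] K₁) (x₂ : B →ₐ[R] K₂)
    (hq : ∀ b ∈ GLin.invariants R A B, x₁ b = 0 ↔ x₂ b = 0) (h₁ : Triv (A := A) x₁) : Triv (A := A) x₂ := by
  let Inv := GLin.invariants R A B
  letI : Algebra Inv K₁ := (x₁.toRingHom.comp Inv.val.toRingHom).toAlgebra
  letI : Algebra Inv K₂ := (x₂.toRingHom.comp Inv.val.toRingHom).toAlgebra
  haveI : IsScalarTower R Inv K₁ := IsScalarTower.of_algebraMap_eq fun r => (x₁.commutes r).symm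
  haveI : IsScalarTower R Inv K₂ := IsScalarTower.of_algebraMap_eq fun r => (x₂.commutes r).symm
  let q : Ideal Inv := RingHom.ker (algebraMap Inv K₁)
  haveI : q.IsPrime := RingHom.ker_isPrime _
  have hq2 : RingHom.ker (algebraMap Inv K₂) = q := by
    ext b
    exact (hq b b.2).symm
  let F := q.ResidueField
  have hu1 : ∀ t : Inv, t ∈ q.primeCompl → IsUnit (algebraMap Inv K₁ t) := fun t ht => IsUnit.mk0 _ ht
  have hu2 : ∀ t : Inv, t ∈ q.primeCompl → IsUnit (algebraMap Inv K₂ t) := fun t ht =>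
    IsUnit.mk0 _ fun h => ht (by rw [← hq2]; exact h)
  let j₁ : F →+* K₁ := Ideal.ResidueField.lift q (algebraMap Inv K₁) le_rfl fun t ht => hu1 t ht
  let j₂ : F →+* K₂ := Ideal.ResidueField.lift q (algebraMap Inv K₂) hq2.ge fun t ht => hu2 t ht
  letI := j₁.toAlgebra
  letI := j₂.toAlgebra
  haveI : IsScalarTower Inv F K₁ := IsScalarTower.of_algebraMap_eq fun t =>
    (Ideal.ResidueField.lift_algebraMap (I := q) (f := algebraMap Inv K₁) _ _ t).symm
  haveI : IsScalarTower Inv F K₂ := IsScalarTower.of_algebraMap_eq fun t =>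
    (Ideal.ResidueField.lift_algebraMap (I := q) (f := algebraMap Inv K₂) _ _ t).symm
  obtain ⟨M, hM⟩ := Ideal.exists_maximal (K₁ ⊗[F] K₂)
  letI := Ideal.Quotient.field M
  let L := AlgebraicClosure ((K₁ ⊗[F] K₂) ⧸ M)
  let φ : (K₁ ⊗[F] K₂) →+* L := (algebraMap _ L).comp (Ideal.Quotient.mk M)
  let f₁ : K₁ →+* L := φ.comp Algebra.TensorProduct.includeLeftRingHom
  let f₂ : K₂ →+* L := φ.comp (Algebra.TensorProduct.includeRight : K₂ →ₐ[F] K₁ ⊗[F] K₂).toRingHom
  letI : Algebra R L := (f₁.comp (algebraMap R K₁)).toAlgebra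
  have hcompat : ∀ t : Inv, f₁ (algebraMap Inv K₁ t) = f₂ (algebraMap Inv K₂ t) := fun t => by
    rw [IsScalarTower.algebraMap_apply Inv F K₁, IsScalarTower.algebraMap_apply Inv F K₂]
    simp only [f₁, f₂, RingHom.comp_apply, AlgHom.toRingHom_eq_coe, RingHom.coe_coe,
      Algebra.TensorProduct.includeLeftRingHom_apply, Algebra.TensorProduct.includeRight_apply]
    congr 1
    exact Algebra.TensorProduct.tmul_one_eq_one_tmul _
  let i₁ : K₁ →ₐ[R] L := { f₁ with commutes' := fun r => rfl }
  let i₂ : K₂ →ₐ[R] L :=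
    { f₂ with
      commutes' := fun r => by
        show f₂ (algebraMap R K₂ r) = f₁ (algebraMap R K₁ r)
        rw [IsScalarTower.algebraMap_apply R Inv K₂, IsScalarTower.algebraMap_apply R Inv K₁]
        exact (hcompat _).symm }
  have hagree : ∀ b ∈ Inv, i₁.comp x₁ b = i₂.comp x₂ b := fun b hb => hcompat ⟨b, hb⟩
  obtain ⟨g, hg⟩ := exists_act_eq (i₁.comp x₁) (i₂.comp x₂) hagree
  refine triv_of_comp i₂ (triv_of_act g ?_)
  rw [hg]
  exact triv_comp h₁ i₁

set_option backward.isDefEq.respectTransparency false in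
/-- Trivial inertia at a point gives freeness over a neighbourhood of its image in the quotient. -/
theorem exists_free_nhd {K : Type u} [Field K] [Algebra R K] (x : B →ₐ[R] K) (hx : Triv (A := A) x) :
    ∃ f : B, f ∈ GLin.invariants R A B ∧ x f ≠ 0 ∧
      ∀ (C : Type u) (_ : CommRing C) (_ : Algebra R C) (ζ : B →ₐ[R] C) (g : A →ₐ[R] C),
        IsUnit (ζ f) → act ζ g = ζ → g = unit A C := by
  classical
  obtain ⟨d⟩ := exists_dualBasis R A
  let J : Ideal (B ⊗[R] A) :=
    Ideal.span (Set.range fun b => GLin.coactAlgHom R A B b - b ⊗ₜ[R] (1 : A))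
  let Q := (B ⊗[R] A) ⧸ J
  haveI : Module.Finite B Q := Module.Finite.trans (B ⊗[R] A) Q
  let N := Q ⧸ LinearMap.range (Algebra.linearMap B Q)
  let Ann := Module.annihilator B N
  let T : Submonoid B :=
    { carrier := {b | b ∈ GLin.invariants R A B ∧ x b ≠ 0}
      mul_mem' := fun ha hb => ⟨mul_mem ha.1 hb.1, by rw [map_mul]; exact mul_ne_zero ha.2 hb.2⟩
      one_mem' := ⟨one_mem _, by simp⟩ }
  -- some element of `T` kills `N`
  obtain ⟨f, hfT, hfA⟩ : ∃ f ∈ T, f ∈ Ann := by
    by_contra hcon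
    push Not at hcon
    have hdisj : Disjoint (Ann : Set B) (T : Set B) := Set.disjoint_left.2 fun b hb hbT => hcon b hbT hb
    obtain ⟨P, hP, hAP, hPT, hPmax⟩ : ∃ P : Ideal B, P.IsPrime ∧ Ann ≤ P ∧ Disjoint (P : Set B) (T : Set B) ∧
        ∀ P' : Ideal B, P ≤ P' → Disjoint (P' : Set B) (T : Set B) → P' ≤ P := by
      obtain ⟨P, hAP, hmax⟩ := zorn_le_nonempty₀ {I : Ideal B | Disjoint (I : Set B) (T : Set B)}
        (fun c hc hc' y hy => ⟨sSup c, by
          refine Set.disjoint_left.2 fun b hb hbT => ?_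
          obtain ⟨I, hI, hbI⟩ := (Submodule.mem_sSup_of_directed ⟨y, hy⟩ hc'.directedOn).1 hb
          exact Set.disjoint_left.1 (hc hI) hbI hbT, fun I hI => le_sSup hI⟩) Ann hdisj
      refine ⟨P, Ideal.isPrime_of_maximally_disjoint P T hmax.prop ?_, hAP, hmax.prop,
        fun P' h h' => hmax.le_of_ge h' h⟩
      exact fun P' h h' => h.not_ge (hmax.le_of_ge h' h.le)
    -- the trace of `P` on the invariants is the point
    have hzero : ∀ b ∈ GLin.invariants R A B, b ∈ P → x b = 0 := fun b hb hbP => by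
      by_contra h
      exact Set.disjoint_left.1 hPT hbP (show b ∈ T from ⟨hb, h⟩)
    let L := FractionRing (B ⧸ P)
    let xP : B →ₐ[R] L := IsScalarTower.toAlgHom R B L
    have hxP : ∀ b, xP b = 0 ↔ b ∈ P := fun b => by
      show algebraMap B L b = 0 ↔ _
      rw [IsScalarTower.algebraMap_apply B (B ⧸ P) L, Ideal.Quotient.algebraMap_eq]
      rw [map_eq_zero_iff _ (IsFractionRing.injective (B ⧸ P) L), Ideal.Quotient.eq_zero_iff_mem]
    have hmem : ∀ b ∈ GLin.invariants R A B, x b = 0 → b ∈ P := by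
      intro r hr hr0
      by_contra hrP
      have hlt : ¬ P ⊔ Ideal.span {r} ≤ P := fun h =>
        hrP (h (Ideal.mem_sup_right (Ideal.mem_span_singleton_self r)))
      obtain ⟨s, hsP, hsT⟩ : ∃ s ∈ P ⊔ Ideal.span {r}, s ∈ T := by
        by_contra h
        push Not at h
        exact hlt (hPmax _ le_sup_left (Set.disjoint_left.2 fun b hb => h b hb))
      obtain ⟨π, hπ, w, hw, hsum⟩ := Submodule.mem_sup.1 hsP
      obtain ⟨c, rfl⟩ := Ideal.mem_span_singleton'.1 hw
      obtain ⟨hs, hsx⟩ := hsT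
      -- `π = s - c r` has nonzero norm at `x` and zero norm at `P`
      have hdπ : x (det d (GLin.coactAlgHom R A B π)) ≠ 0 := by
        rw [det_map d x]
        refine (isUnit_det d ?_).ne_zero
        have e : Algebra.TensorProduct.map x (AlgHom.id R A) (GLin.coactAlgHom R A B π) = x s ⊗ₜ[R] (1 : A) := by
          rw [show π = s - c * r from eq_sub_of_add_eq hsum, map_sub, map_mul, map_sub, map_mul]
          simp only [GLin.coactAlgHom_apply]
          rw [(GLin.mem_invariants_iff R A B s).1 hs, (GLin.mem_invariants_iff R A B r).1 hr]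
          simp [hr0]
        rw [e]
        exact (IsUnit.mk0 _ hsx).map (Algebra.TensorProduct.includeLeft : K →ₐ[R] K ⊗[R] A)
      have hd0 : xP (det d (GLin.coactAlgHom R A B π)) = 0 := by
        rw [det_map d xP]
        refine det_eq_zero d (unit A L) _ ?_
        have e : ∀ y : B ⊗[R] A, Algebra.TensorProduct.lift (Algebra.ofId L L) (unit A L) (fun _ _ => .all _ _)
            (Algebra.TensorProduct.map xP (AlgHom.id R A) y) =
            Algebra.TensorProduct.lift xP (unit A L) (fun _ _ => .all _ _) y := fun y => by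
          induction y with
          | zero => simp
          | add x y hx hy => simp only [map_add, hx, hy]
          | tmul b a => simp
        rw [e, ← AlgHom.comp_apply]
        show act xP (unit A L) π = 0
        rw [act_unit]
        exact (hxP π).2 hπ
      exact hdπ (hzero _ (det_mem_invariants d π) ((hxP _).1 hd0))
    -- hence trivial inertia at `P`, so `N = P • N`
    have htriv : Triv (A := A) xP := triv_of_ker_eq x xP (fun b hb =>
      ⟨fun h => (hxP b).2 (hmem b hb h), fun h => hzero b hb ((hxP b).1 h)⟩) hx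
    let hL : L →ₐ[R] (L ⊗[B] Q) := Algebra.TensorProduct.includeLeft
    let qm : B ⊗[R] A →ₐ[R] Q := Ideal.Quotient.mkₐ R J
    let incQ : Q →ₐ[R] (L ⊗[B] Q) := (Algebra.TensorProduct.includeRight : Q →ₐ[B] (L ⊗[B] Q)).restrictScalars R
    let g : A →ₐ[R] (L ⊗[B] Q) := incQ.comp (qm.comp Algebra.TensorProduct.includeRight)
    have hbase : ∀ b, incQ (qm (b ⊗ₜ[R] (1 : A))) = hL (xP b) := fun b => by
      show (1 : L) ⊗ₜ[B] algebraMap B Q b = algebraMap B L b ⊗ₜ[B] (1 : Q)
      rw [Algebra.algebraMap_eq_smul_one, Algebra.algebraMap_eq_smul_one, TensorProduct.tmul_smul,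
        TensorProduct.smul_tmul']
    have hfix : act (E := L ⊗[B] Q) (hL.comp xP) g = hL.comp xP := AlgHom.ext fun b => by
      have e : ∀ y : B ⊗[R] A, Algebra.TensorProduct.lift (hL.comp xP) g
          (fun _ _ => Commute.all (S := L ⊗[B] Q) _ _) y = incQ (qm y) := fun y => by
        induction y with
        | zero => simp
        | add x y hx hy => simp only [map_add, hx, hy]
        | tmul b a =>
          rw [Algebra.TensorProduct.lift_tmul, AlgHom.comp_apply, ← hbase]
          simp only [g, AlgHom.comp_apply, Algebra.TensorProduct.includeRight_apply, ← map_mul,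
            Algebra.TensorProduct.tmul_mul_tmul, mul_one, one_mul]
      show Algebra.TensorProduct.lift (hL.comp xP) g (fun _ _ => Commute.all (S := L ⊗[B] Q) _ _)
        (GLin.coactAlgHom R A B b) = _
      rw [e]
      refine (congrArg incQ ?_).trans (hbase b)
      exact Ideal.Quotient.eq.2 (Ideal.subset_span ⟨b, rfl⟩)
    have hg1 := htriv (L ⊗[B] Q) inferInstance inferInstance hL g hfix
    -- so `L ⊗ N = 0`
    have hN0 : ∀ z : L ⊗[B] N, z = 0 := by
      intro z
      induction z with
      | zero => rfl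
      | add x y hx hy => rw [hx, hy, add_zero]
      | tmul l n =>
        obtain ⟨q, rfl⟩ := Submodule.Quotient.mk_surjective _ n
        obtain ⟨y, rfl⟩ := Ideal.Quotient.mk_surjective q
        induction y with
        | zero => simp
        | add x y hx hy => rw [map_add, Submodule.Quotient.mk_add, TensorProduct.tmul_add, hx, hy, add_zero]
        | tmul b a =>
          let mN := (LinearMap.range (Algebra.linearMap B Q)).mkQ.lTensor L
          have hga : mN (l • g a) = 0 := by
            rw [hg1, AlgHom.comp_apply, Algebra.ofId_apply]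
            rw [IsScalarTower.algebraMap_apply R L (L ⊗[B] Q), Algebra.algebraMap_eq_smul_one, smul_smul]
            have : ∀ l : L, mN (l • (1 : (L ⊗[B] Q))) = 0 := fun l => by
              show mN (l • ((1 : L) ⊗ₜ[B] (1 : Q))) = 0
              rw [TensorProduct.smul_tmul', smul_eq_mul, mul_one]
              show l ⊗ₜ[B] Submodule.Quotient.mk (p := LinearMap.range (Algebra.linearMap B Q)) (1 : Q) = 0
              rw [(Submodule.Quotient.mk_eq_zero (LinearMap.range (Algebra.linearMap B Q))).2 ⟨1, map_one (algebraMap B Q)⟩, TensorProduct.tmul_zero]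
            exact this _
          have hqa : l • g a = l ⊗ₜ[B] (Ideal.Quotient.mk J ((1 : B) ⊗ₜ[R] a)) := by
            show l • ((1 : L) ⊗ₜ[B] (Ideal.Quotient.mk J ((1 : B) ⊗ₜ[R] a))) = _
            rw [TensorProduct.smul_tmul', smul_eq_mul, mul_one]
          have h0 : l ⊗ₜ[B] Submodule.Quotient.mk (p := LinearMap.range (Algebra.linearMap B Q))
              (Ideal.Quotient.mk J ((1 : B) ⊗ₜ[R] a)) = 0 := by
            rw [hqa] at hga
            exact hga
          have e : Ideal.Quotient.mk J (b ⊗ₜ[R] a) = b • Ideal.Quotient.mk J ((1 : B) ⊗ₜ[R] a) := by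
            rw [← Ideal.Quotient.mkₐ_eq_mk B, ← map_smul, TensorProduct.smul_tmul', smul_eq_mul, mul_one]
          rw [e, Submodule.Quotient.mk_smul, TensorProduct.tmul_smul, h0, smul_zero]
    haveI : Module.Finite B N := inferInstance
    have hnotmem : (⟨P, hP⟩ : PrimeSpectrum B) ∈ Module.support B N := by
      rw [Module.mem_support_iff_of_finite]; exact hAP
    letI : Algebra P.ResidueField L := (Ideal.ResidueField.lift P (algebraMap B L)
      (fun b hb => (hxP b).2 hb) fun b hb => IsUnit.mk0 _ fun h => hb ((hxP b).1 h)).toAlgebra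
    haveI : IsScalarTower B P.ResidueField L := IsScalarTower.of_algebraMap_eq fun b => by
      simp [RingHom.algebraMap_toAlgebra]
    have hsub : Subsingleton (P.ResidueField ⊗[B] N) := by
      haveI : Subsingleton (L ⊗[P.ResidueField] (P.ResidueField ⊗[B] N)) :=
        (AlgebraTensorModule.cancelBaseChange B P.ResidueField L L N).subsingleton_congr.2
          (subsingleton_of_forall_eq 0 hN0)
      exact Module.FaithfullyFlat.subsingleton_tensorProduct_iff_right P.ResidueField L |>.1 inferInstance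
    rw [Module.mem_support_iff_nontrivial_residueField_tensorProduct] at hnotmem
    exact not_subsingleton _ hsub
  refine ⟨f, hfT.1, hfT.2, fun C _ _ ζ g hu hg => ?_⟩
  let Φ₀ : B ⊗[R] A →ₐ[R] C := Algebra.TensorProduct.lift ζ g fun _ _ => .all _ _
  have hΦ : ∀ y ∈ J, Φ₀ y = 0 := by
    refine fun y hy => (Ideal.span_le (I := RingHom.ker Φ₀)).2 ?_ hy
    rintro _ ⟨b, rfl⟩
    rw [SetLike.mem_coe, RingHom.mem_ker, map_sub, sub_eq_zero]
    exact (AlgHom.congr_fun hg b).trans (by simp [Φ₀])
  let e₀ : B ⊗[R] A →ₐ[R] B := Algebra.TensorProduct.lift (AlgHom.id R B) (unit A B) fun _ _ => .all _ _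
  have he₀ : ∀ y ∈ J, e₀ y = 0 := by
    refine fun y hy => (Ideal.span_le (I := RingHom.ker e₀)).2 ?_ hy
    rintro _ ⟨b, rfl⟩
    rw [SetLike.mem_coe, RingHom.mem_ker, map_sub, sub_eq_zero]
    exact (AlgHom.congr_fun (act_unit (A := A) (AlgHom.id R B)) b).trans (by simp [e₀, unit])
  refine AlgHom.ext fun a => hu.mul_left_cancel ?_
  obtain ⟨b, hb⟩ := (Submodule.Quotient.mk_eq_zero _).1
    ((Submodule.Quotient.mk_smul _ f (Ideal.Quotient.mk J ((1 : B) ⊗ₜ[R] a))).trans
      (Module.mem_annihilator.1 hfA (Submodule.Quotient.mk _)))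
  have hdiff : (f ⊗ₜ[R] a - b ⊗ₜ[R] (1 : A) : B ⊗[R] A) ∈ J := by
    rw [← Ideal.Quotient.eq]
    refine Eq.trans ?_ hb.symm
    rw [← Ideal.Quotient.mkₐ_eq_mk B, ← map_smul, TensorProduct.smul_tmul', smul_eq_mul, mul_one]
  have hb' : f * algebraMap R B (Bialgebra.counitAlgHom R A a) = b := by
    have := he₀ _ hdiff
    rw [map_sub, sub_eq_zero] at this
    simpa [e₀, unit] using this
  have hΦ' := hΦ _ hdiff
  rw [map_sub, sub_eq_zero] at hΦ'
  simp only [Φ₀, Algebra.TensorProduct.lift_tmul, map_one, mul_one, ← hb', map_mul, AlgHom.commutes] at hΦ'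
  rw [hΦ']
  rfl

end Groth.Agent.CoactPtsLib
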