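import Mathlib
import Groth.Agent.CoactPtsLib.Free

/-! From scheme-valued points to ring-valued points. -/

set_option autoImplicit false

noncomputable section

universe u

open CategoryTheory CartesianMonoidalCategory AlgebraicGeometry
open scoped MonObj

namespace Groth.Agent.CoactPtsLib

variable {R : Type u} [CommRing R]

/-- Morphisms between affine schemes over `R` are points. -/
lemma exists_pt {B C : Type u} [CommRing B] [Algebra R B] [CommRing C] [Algebra R C]
    (j : CoactBr.sp R C ⟶ CoactBr.sp R B) : ∃ φ : B →ₐ[R] C, j = CoactBr.pt φ := by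
  obtain ⟨ψ, hψ⟩ := Spec.map_surjective j.left
  have hw : CommRingCat.ofHom (algebraMap R B) ≫ ψ = CommRingCat.ofHom (algebraMap R C) := by
    apply Spec.map_injective
    rw [Spec.map_comp, hψ]
    exact Over.w j
  refine ⟨{ ψ.hom with commutes' := fun r => congr($(hw).hom r) }, Over.OverMorphism.ext ?_⟩
  rw [CoactBr.pt_left, ← hψ]
  rfl

/-- Morphisms over `Spec R` agree if they agree on all affine-valued points. -/
lemma eq_of_forall_sp {T X : Over (Spec (CommRingCat.of R))} {g g' : T ⟶ X}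
    (H : ∀ (C : Type u) (_ : CommRing C) (_ : Algebra R C) (j : CoactBr.sp R C ⟶ T), j ≫ g = j ≫ g') :
    g = g' := by
  refine Over.OverMorphism.ext (T.left.affineCover.hom_ext _ _ fun i => ?_)
  letI : Algebra R (Γ(T.left.affineCover.X i, ⊤)) :=
    ((T.left.affineCover.X i).isoSpec.inv ≫ T.left.affineCover.f i ≫ T.hom |> Spec.preimage).hom.toAlgebra
  let j : CoactBr.sp R (Γ(T.left.affineCover.X i, ⊤)) ⟶ T :=
    Over.homMk ((T.left.affineCover.X i).isoSpec.inv ≫ T.left.affineCover.f i) (by
      rw [Category.assoc]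
      exact (Spec.map_preimage _).symm)
  have h : j.left ≫ g.left = j.left ≫ g'.left := congrArg Over.Hom.left (H _ inferInstance inferInstance j)
  simp only [j, Over.homMk_left, Category.assoc, cancel_epi] at h
  exact h

variable {A B : Type u} [CommRing A] [HopfAlgebra R A] [CommRing B] [Algebra R B]
  [HopfRep.Comod R A B] [GLin.IsCoactAlg R A B]

lemma act_iff {C : Type u} [CommRing C] [Algebra R C] (ζ : B →ₐ[R] C) (g : A →ₐ[R] C) :
    act ζ g = ζ ↔
      lift (CoactBr.pt g)⁻¹ (CoactBr.pt ζ) ≫ (CoactBr.action R A B).act = CoactBr.pt ζ := by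
  rw [CoactBr.lift_action_act, inv_inv, CoactBr.lift_pt_ract]
  exact ⟨fun h => congrArg CoactBr.pt h, fun h => CoactBr.pt_injective h⟩

/-- Trivial inertia on ring-valued points is trivial inertia. -/
theorem triv_iff {K : Type u} [CommRing K] [Algebra R K] (x : B →ₐ[R] K) :
    Triv (A := A) x ↔
      ∀ (T : Over (Spec (CommRingCat.of R))) (h : T ⟶ CoactBr.sp R K) (g : T ⟶ CoactBr.sp R A),
        lift g (h ≫ CoactBr.pt x) ≫ (CoactBr.action R A B).act = h ≫ CoactBr.pt x → g = 1 := by
  constructor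
  · intro hx T h g hg
    refine eq_of_forall_sp fun C _ _ j => ?_
    obtain ⟨etp, hetp⟩ := exists_pt (j ≫ h)
    obtain ⟨gam, hgam⟩ := exists_pt (j ≫ g)⁻¹
    have hjx : j ≫ h ≫ CoactBr.pt x = CoactBr.pt (etp.comp x) := by
      rw [CoactBr.pt_comp, ← hetp, Category.assoc]
    have h1 : act (etp.comp x) gam = etp.comp x := by
      rw [act_iff, ← hgam, inv_inv, ← hjx]
      have := congrArg (j ≫ ·) hg
      simpa only [comp_lift_assoc] using this
    have h2 := hx C inferInstance inferInstance etp gam h1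
    rw [h2, ← CoactBr.one_eq_pt, inv_eq_one] at hgam
    rw [hgam, MonObj.comp_one]
  · intro H C _ _ h g hg
    rw [act_iff, CoactBr.pt_comp] at hg
    have h1 := H _ _ _ hg
    rw [inv_eq_one] at h1
    exact CoactBr.pt_injective (h1.trans CoactBr.one_eq_pt)

/-- Freeness on ring-valued points, on a class of points. -/
theorem free_of_forall (P : ∀ (C : Type u) [CommRing C] [Algebra R C], (B →ₐ[R] C) → Prop)
    (hfree : ∀ (C : Type u) (_ : CommRing C) (_ : Algebra R C) (ζ : B →ₐ[R] C) (g : A →ₐ[R] C),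
      P C ζ → act ζ g = ζ → g = unit A C)
    (T : Over (Spec (CommRingCat.of R))) (ζ : T ⟶ CoactBr.sp R B)
    (hP : ∀ (C : Type u) (_ : CommRing C) (_ : Algebra R C) (j : CoactBr.sp R C ⟶ T) (z : B →ₐ[R] C),
      j ≫ ζ = CoactBr.pt z → P C z)
    (g : T ⟶ CoactBr.sp R A) (hg : lift g ζ ≫ (CoactBr.action R A B).act = ζ) : g = 1 := by
  refine eq_of_forall_sp fun C _ _ j => ?_
  obtain ⟨z, hz⟩ := exists_pt (j ≫ ζ)
  obtain ⟨gam, hgam⟩ := exists_pt (j ≫ g)⁻¹
  have h1 : act z gam = z := by
    rw [act_iff, ← hgam, inv_inv, ← hz]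
    have := congrArg (j ≫ ·) hg
    simpa only [comp_lift_assoc] using this
  have h2 := hfree C inferInstance inferInstance z gam (hP C _ _ j z hz) h1
  rw [h2, ← CoactBr.one_eq_pt, inv_eq_one] at hgam
  rw [hgam, MonObj.comp_one]

end Groth.Agent.CoactPtsLib
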